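import Mathlib
import Cfsg.Agent.Lib.Helper75.APair.Defs

set_option autoImplicit false

/-!
# APAIR (S2276), package [REDA]: restriction to an invariant finset as a permutation of `Fin q`
-/

namespace Cfsg.Agent.Lib.Helper43.APair

open Equiv Cfsg.Agent.Lib.Helper75.APair

theorem pkgRedA : PkgRedA := by
  intro Ω _ _ u Z q hq hZ
  let e : {x // x ∈ Z} ≃ Fin q := Z.equivFinOfCardEq hq
  let r : Perm {x // x ∈ Z} := u.subtypePermOfFintype (p := fun x => x ∈ Z) hZ
  refine ⟨⟨fun k => ((e.symm k : {x // x ∈ Z}) : Ω), ?_⟩, e.symm.trans (r.trans e), ?_, ?_⟩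
  · intro k l hkl
    exact e.symm.injective (Subtype.ext hkl)
  · intro x
    show u ((e.symm x : {x // x ∈ Z}) : Ω) = ((e.symm (e (r (e.symm x))) : {x // x ∈ Z}) : Ω)
    rw [Equiv.symm_apply_apply]
    rfl
  · intro z hz
    refine ⟨e ⟨z, hz⟩, ?_⟩
    show ((e.symm (e ⟨z, hz⟩) : {x // x ∈ Z}) : Ω) = z
    rw [Equiv.symm_apply_apply]

end Cfsg.Agent.Lib.Helper43.APair
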