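import Mathlib
import Cfsg.Agent.Lib.Helper75.APair.Defs

set_option autoImplicit false

/-!
# APAIR (S2276), package [REDB]: an orbit of size `q` is a copy of `finRotate q`
-/

namespace Cfsg.Agent.Lib.Helper43.APair

open Equiv Cfsg.Agent.Lib.Helper75.APair

theorem pkgRedB : PkgRedB := by
  intro Ω _ _ w y₀ q hq
  have hinj : Function.Injective (fun k : Fin q => (w : Ω → Ω)^[(k : ℕ)] y₀) := by
    intro k l hkl
    have hk : (k : ℕ) < Function.minimalPeriod (w : Ω → Ω) y₀ := by rw [hq]; exact k.2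
    have hl : (l : ℕ) < Function.minimalPeriod (w : Ω → Ω) y₀ := by rw [hq]; exact l.2
    exact Fin.ext ((Function.iterate_eq_iterate_iff_of_lt_minimalPeriod hk hl).mp hkl)
  refine ⟨⟨fun k : Fin q => (w : Ω → Ω)^[(k : ℕ)] y₀, hinj⟩, ?_⟩
  intro k
  show w ((w : Ω → Ω)^[(k : ℕ)] y₀) = (w : Ω → Ω)^[((finRotate q k : Fin q) : ℕ)] y₀
  rw [← Function.iterate_succ_apply' (w : Ω → Ω) (k : ℕ) y₀]
  rcases q with _ | n
  · exact k.elim0
  · rw [coe_finRotate]
    split_ifs with hk
    · have hk' : (k : ℕ) = n := by rw [hk]; rfl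
      rw [hk']
      have := Function.iterate_minimalPeriod (f := (w : Ω → Ω)) (x := y₀)
      rw [hq] at this
      rw [this]
      rfl
    · rfl

end Cfsg.Agent.Lib.Helper43.APair
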