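import Mathlib
import Cfsg.Agent.Lib.Helper75.APair.Defs

set_option autoImplicit false

/-!
# APAIR (S2276), package [REDC]: periods and exponents through an intertwining embedding
-/

namespace Cfsg.Agent.Lib.Helper43.APair

open Equiv Cfsg.Agent.Lib.Helper75.APair

theorem iterate_intertwine {Ω Δ : Type} (u : Perm Ω) (a : Perm Δ) (ι : Δ ↪ Ω)
    (h : ∀ x, u (ι x) = ι (a x)) (n : ℕ) (x : Δ) : (u ^ n) (ι x) = ι ((a ^ n) x) := by
  induction n with
  | zero => simp
  | succ n ih =>
    rw [pow_succ', pow_succ', Perm.mul_apply, Perm.mul_apply, ih, h]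

theorem pkgRedC : PkgRedC := by
  intro Ω Δ _ _ _ _ u a ι h
  refine ⟨?_, ?_⟩
  · intro x
    rw [Function.minimalPeriod_eq_minimalPeriod_iff]
    intro n
    unfold Function.IsPeriodicPt Function.IsFixedPt
    have e1 : (a : Δ → Δ)^[n] x = (a ^ n) x := by
      rw [Perm.iterate_eq_pow]
    have e2 : (u : Ω → Ω)^[n] (ι x) = (u ^ n) (ι x) := by
      rw [Perm.iterate_eq_pow]
    rw [e1, e2, iterate_intertwine u a ι h n x]
    exact ι.injective.eq_iff.symm
  · intro m hm
    ext x
    apply ι.injective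
    rw [← iterate_intertwine u a ι h m x, hm]
    simp

end Cfsg.Agent.Lib.Helper43.APair
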