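import Mathlib
import Cfsg.Agent.Lib.Helper75.APair.Defs

set_option autoImplicit false

/-!
# APAIR (S2276), package [S3]: two elements of order 3 on at least 5 points
-/

namespace Cfsg.Agent.Lib.Helper43.APair

open Equiv Cfsg.Agent.Lib.Helper75.APair
open scoped commutatorElement

theorem not_pow3_five : ¬ ∃ k : ℕ, 5 = 3 ^ k := by
  rintro ⟨k, hk⟩
  rcases k with _ | _ | k
  · simp at hk
  · simp at hk
  · have h9 : 3 ^ 2 ≤ 3 ^ (k + 1 + 1) := Nat.pow_le_pow_right (by norm_num) (by omega)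
    omega

theorem pp_of_key {G : Type} [Group G] (hNSG : PkgNSG) (a b y z : G)
    (hy : y ∈ Subgroup.closure ({a, b} : Set G)) (hz : z ∈ Subgroup.closure ({a, b} : Set G))
    (h5 : (a * b) ^ 5 = 1) (h1 : a * b ≠ 1) (ha : a ≠ 1)
    (key : a = z * ⁅a, y * a * y⁻¹⁆ * z⁻¹) : PP 3 a b := by
  refine ⟨?_, ?_⟩
  · haveI : Fact (Nat.Prime 5) := ⟨by norm_num⟩
    rw [orderOf_eq_prime h5 h1]
    exact not_pow3_five
  · exact hNSG G _ a y z (Subgroup.subset_closure (by simp)) hy hz ha key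

/-- words `y = b a⁻¹ b`, `z = b` -/
theorem pp_std1 {G : Type} [Group G] (hNSG : PkgNSG) (a b : G)
    (h5 : (a * b) ^ 5 = 1) (h1 : a * b ≠ 1) (ha : a ≠ 1)
    (key : a = b * ⁅a, (b * a⁻¹ * b) * a * (b * a⁻¹ * b)⁻¹⁆ * b⁻¹) : PP 3 a b := by
  have hA : a ∈ Subgroup.closure ({a, b} : Set G) := Subgroup.subset_closure (by simp)
  have hB : b ∈ Subgroup.closure ({a, b} : Set G) := Subgroup.subset_closure (by simp)
  exact pp_of_key hNSG a b (b * a⁻¹ * b) b
    (Subgroup.mul_mem _ (Subgroup.mul_mem _ hB (Subgroup.inv_mem _ hA)) hB) hB h5 h1 ha key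

/-- words `y = b⁻¹`, `z = b a b⁻¹` -/
theorem pp_std2 {G : Type} [Group G] (hNSG : PkgNSG) (a b : G)
    (h5 : (a * b) ^ 5 = 1) (h1 : a * b ≠ 1) (ha : a ≠ 1)
    (key : a = (b * a * b⁻¹) * ⁅a, b⁻¹ * a * b⁻¹⁻¹⁆ * (b * a * b⁻¹)⁻¹) : PP 3 a b := by
  have hA : a ∈ Subgroup.closure ({a, b} : Set G) := Subgroup.subset_closure (by simp)
  have hB : b ∈ Subgroup.closure ({a, b} : Set G) := Subgroup.subset_closure (by simp)
  exact pp_of_key hNSG a b b⁻¹ (b * a * b⁻¹) (Subgroup.inv_mem _ hB)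
    (Subgroup.mul_mem _ (Subgroup.mul_mem _ hB hA) (Subgroup.inv_mem _ hB)) h5 h1 ha key

/-- the 3-cycle `(0 1 2)` on `Fin 5` -/
def A5 : Perm (Fin 5) := swap 0 1 * swap 1 2

/-- `(0 1 2)(3 4 5)` on `Fin 6` -/
def A6 : Perm (Fin 6) := (swap 0 1 * swap 1 2) * (swap 3 4 * swap 4 5)

/-- the 3-cycle `(0 1 2)` on `Fin 6` -/
def A6' : Perm (Fin 6) := swap 0 1 * swap 1 2

theorem good_alpha (hNSG : PkgNSG) : Good 3 A5 A5 := by
  refine ⟨swap 1 3 * swap 2 4, swap 1 3 * swap 3 2 * swap 2 4, ?_, ?_, ?_⟩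
  · decide
  · exact pp_std1 hNSG _ _ (by decide +kernel) (by decide +kernel) (by decide +kernel) (by decide +kernel)
  · exact pp_std1 hNSG _ _ (by decide +kernel) (by decide +kernel) (by decide +kernel) (by decide +kernel)

theorem good_beta (hNSG : PkgNSG) : Good 3 A6 A6 := by
  refine ⟨swap 2 3 * swap 4 5, swap 1 3 * (swap 2 4 * swap 4 5), ?_, ?_, ?_⟩
  · decide
  · exact pp_std1 hNSG _ _ (by decide +kernel) (by decide +kernel) (by decide +kernel) (by decide +kernel)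
  · exact pp_std1 hNSG _ _ (by decide +kernel) (by decide +kernel) (by decide +kernel) (by decide +kernel)

theorem good_gamma (hNSG : PkgNSG) : Good 3 A6' A6 := by
  refine ⟨swap 1 2 * swap 2 3, swap 1 2 * swap 2 3 * swap 4 5, ?_, ?_, ?_⟩
  · decide
  · exact pp_std2 hNSG _ _ (by decide +kernel) (by decide +kernel) (by decide +kernel) (by decide +kernel)
  · exact pp_std2 hNSG _ _ (by decide +kernel) (by decide +kernel) (by decide +kernel) (by decide +kernel)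

theorem good_gammap (hNSG : PkgNSG) : Good 3 A6 A6' := by
  refine ⟨swap 1 2 * swap 2 3, swap 1 2 * swap 2 3 * swap 4 5, ?_, ?_, ?_⟩
  · decide
  · exact pp_std2 hNSG _ _ (by decide +kernel) (by decide +kernel) (by decide +kernel) (by decide +kernel)
  · exact pp_std2 hNSG _ _ (by decide +kernel) (by decide +kernel) (by decide +kernel) (by decide +kernel)


/-! ## Standard forms of an element of order 3 -/

section std

variable {Ω : Type} [Fintype Ω] [DecidableEq Ω]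

theorem cube_apply (v : Perm Ω) (h3 : v ^ 3 = 1) (y : Ω) : v (v (v y)) = y := by
  have h := congrArg (fun f : Perm Ω => f y) h3
  simpa [pow_succ, Perm.mul_apply] using h

/-- a point outside the orbit `{x, v x, v² x}` has its image outside it too -/
theorem notin_orbit (v : Perm Ω) (h3 : ∀ y, v (v (v y)) = y) (x y : Ω)
    (h : y ≠ x ∧ y ≠ v x ∧ y ≠ v (v x)) : v y ≠ x ∧ v y ≠ v x ∧ v y ≠ v (v x) := by
  obtain ⟨h1, h2, h4⟩ := h
  refine ⟨?_, ?_, ?_⟩
  · intro e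
    apply h4
    have := congrArg (fun t => v (v t)) e
    simp only [h3] at this
    exact this
  · intro e
    exact h1 (v.injective e)
  · intro e
    exact h2 (v.injective e)

theorem orbit_distinct (v : Perm Ω) (h3 : ∀ y, v (v (v y)) = y) (x : Ω) (hx : v x ≠ x) :
    x ≠ v x ∧ x ≠ v (v x) ∧ v x ≠ v (v x) := by
  refine ⟨fun e => hx e.symm, ?_, ?_⟩
  · intro e
    apply hx
    have := congrArg v e
    rw [h3] at this
    exact this
  · intro e
    exact hx (v.injective e).symm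

theorem emb5 (v : Perm Ω) (x f₁ f₂ : Ω) (h3 : v (v (v x)) = x) (hf₁ : v f₁ = f₁)
    (hf₂ : v f₂ = f₂) (hnd : [x, v x, v (v x), f₁, f₂].Nodup) :
    ∃ ι : Fin 5 ↪ Ω, ∀ k, v (ι k) = ι (A5 k) := by
  refine ⟨⟨![x, v x, v (v x), f₁, f₂], ?_⟩, ?_⟩
  · rw [← List.nodup_ofFn]
    simpa using hnd
  · intro k
    have h0 : A5 0 = 1 := by decide
    have h1 : A5 1 = 2 := by decide
    have h2 : A5 2 = 0 := by decide
    have h3' : A5 3 = 3 := by decide
    have h4 : A5 4 = 4 := by decide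
    fin_cases k
    · show v x = ![x, v x, v (v x), f₁, f₂] (A5 0)
      rw [h0]; rfl
    · show v (v x) = ![x, v x, v (v x), f₁, f₂] (A5 1)
      rw [h1]; rfl
    · show v (v (v x)) = ![x, v x, v (v x), f₁, f₂] (A5 2)
      rw [h2, h3]; rfl
    · show v f₁ = ![x, v x, v (v x), f₁, f₂] (A5 3)
      rw [h3', hf₁]; rfl
    · show v f₂ = ![x, v x, v (v x), f₁, f₂] (A5 4)
      rw [h4, hf₂]; rfl

theorem emb6' (v : Perm Ω) (x f₁ f₂ f₃ : Ω) (h3 : v (v (v x)) = x) (hf₁ : v f₁ = f₁)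
    (hf₂ : v f₂ = f₂) (hf₃ : v f₃ = f₃) (hnd : [x, v x, v (v x), f₁, f₂, f₃].Nodup) :
    ∃ ι : Fin 6 ↪ Ω, ∀ k, v (ι k) = ι (A6' k) := by
  refine ⟨⟨![x, v x, v (v x), f₁, f₂, f₃], ?_⟩, ?_⟩
  · rw [← List.nodup_ofFn]
    simpa using hnd
  · intro k
    have h0 : A6' 0 = 1 := by decide
    have h1 : A6' 1 = 2 := by decide
    have h2 : A6' 2 = 0 := by decide
    have h3' : A6' 3 = 3 := by decide
    have h4 : A6' 4 = 4 := by decide
    have h5 : A6' 5 = 5 := by decide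
    fin_cases k
    · show v x = ![x, v x, v (v x), f₁, f₂, f₃] (A6' 0)
      rw [h0]; rfl
    · show v (v x) = ![x, v x, v (v x), f₁, f₂, f₃] (A6' 1)
      rw [h1]; rfl
    · show v (v (v x)) = ![x, v x, v (v x), f₁, f₂, f₃] (A6' 2)
      rw [h2, h3]; rfl
    · show v f₁ = ![x, v x, v (v x), f₁, f₂, f₃] (A6' 3)
      rw [h3', hf₁]; rfl
    · show v f₂ = ![x, v x, v (v x), f₁, f₂, f₃] (A6' 4)
      rw [h4, hf₂]; rfl
    · show v f₃ = ![x, v x, v (v x), f₁, f₂, f₃] (A6' 5)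
      rw [h5, hf₃]; rfl

theorem emb6 (v : Perm Ω) (x x' : Ω) (h3 : v (v (v x)) = x) (h3' : v (v (v x')) = x')
    (hnd : [x, v x, v (v x), x', v x', v (v x')].Nodup) :
    ∃ ι : Fin 6 ↪ Ω, ∀ k, v (ι k) = ι (A6 k) := by
  refine ⟨⟨![x, v x, v (v x), x', v x', v (v x')], ?_⟩, ?_⟩
  · rw [← List.nodup_ofFn]
    simpa using hnd
  · intro k
    have h0 : A6 0 = 1 := by decide
    have h1 : A6 1 = 2 := by decide
    have h2 : A6 2 = 0 := by decide
    have h3a : A6 3 = 4 := by decide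
    have h4 : A6 4 = 5 := by decide
    have h5 : A6 5 = 3 := by decide
    fin_cases k
    · show v x = ![x, v x, v (v x), x', v x', v (v x')] (A6 0)
      rw [h0]; rfl
    · show v (v x) = ![x, v x, v (v x), x', v x', v (v x')] (A6 1)
      rw [h1]; rfl
    · show v (v (v x)) = ![x, v x, v (v x), x', v x', v (v x')] (A6 2)
      rw [h2, h3]; rfl
    · show v x' = ![x, v x, v (v x), x', v x', v (v x')] (A6 3)
      rw [h3a]; rfl
    · show v (v x') = ![x, v x, v (v x), x', v x', v (v x')] (A6 4)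
      rw [h4]; rfl
    · show v (v (v x')) = ![x, v x, v (v x), x', v x', v (v x')] (A6 5)
      rw [h5, h3']; rfl

/-- an element of order 3 on at least 5 points either has two 3-cycles, or it has one 3-cycle
and at least two fixed points (three if there are at least 6 points) -/
theorem std_form (v : Perm Ω) (h3 : v ^ 3 = 1) (h1 : v ≠ 1) (hcard : 5 ≤ Fintype.card Ω) :
    (∃ ι : Fin 6 ↪ Ω, ∀ k, v (ι k) = ι (A6 k)) ∨
      ((∃ ι : Fin 5 ↪ Ω, ∀ k, v (ι k) = ι (A5 k)) ∧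
        (6 ≤ Fintype.card Ω → ∃ ι : Fin 6 ↪ Ω, ∀ k, v (ι k) = ι (A6' k))) := by
  have hc := cube_apply v h3
  obtain ⟨x, hx⟩ : ∃ x, v x ≠ x := by
    by_contra hcon
    push_neg at hcon
    exact h1 (Perm.ext hcon)
  obtain ⟨d1, d2, d3⟩ := orbit_distinct v hc x hx
  by_cases hT : ∃ x', v x' ≠ x' ∧ x' ≠ x ∧ x' ≠ v x ∧ x' ≠ v (v x)
  · left
    obtain ⟨x', hx', e1, e2, e3⟩ := hT
    obtain ⟨d1', d2', d3'⟩ := orbit_distinct v hc x' hx'
    obtain ⟨e4, e5, e6⟩ := notin_orbit v hc x x' ⟨e1, e2, e3⟩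
    obtain ⟨e7, e8, e9⟩ := notin_orbit v hc x (v x') ⟨e4, e5, e6⟩
    apply emb6 v x x' (hc x) (hc x')
    simp only [List.nodup_cons, List.mem_cons, List.not_mem_nil, or_false, not_or,
      List.nodup_nil, and_true, not_false_eq_true]
    exact ⟨⟨d1, d2, e1.symm, e4.symm, e7.symm⟩, ⟨d3, e2.symm, e5.symm, e8.symm⟩,
      ⟨e3.symm, e6.symm, e9.symm⟩, ⟨d1', d2'⟩, d3'⟩
  · right
    have hfix : ∀ y, y ≠ x → y ≠ v x → y ≠ v (v x) → v y = y := by
      intro y a1 a2 a3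
      by_contra hy
      exact hT ⟨y, hy, a1, a2, a3⟩
    let S : Finset Ω := {x, v x, v (v x)}
    have hS : S.card ≤ 3 := Finset.card_le_three
    have hmem : ∀ y, y ∈ Finset.univ \ S → y ≠ x ∧ y ≠ v x ∧ y ≠ v (v x) := by
      intro y hy
      have hy' : y ∉ S := (Finset.mem_sdiff.mp hy).2
      simp only [S, Finset.mem_insert, Finset.mem_singleton, not_or] at hy'
      exact hy'
    have hcd : Fintype.card Ω - 3 ≤ (Finset.univ \ S).card := by
      have := Finset.le_card_sdiff S (Finset.univ : Finset Ω)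
      rw [Finset.card_univ] at this
      omega
    refine ⟨?_, ?_⟩
    · obtain ⟨f₁, hf₁, f₂, hf₂, hne⟩ := Finset.one_lt_card.mp (by omega : 1 < (Finset.univ \ S).card)
      obtain ⟨a1, a2, a3⟩ := hmem f₁ hf₁
      obtain ⟨b1, b2, b3⟩ := hmem f₂ hf₂
      apply emb5 v x f₁ f₂ (hc x) (hfix f₁ a1 a2 a3) (hfix f₂ b1 b2 b3)
      simp only [List.nodup_cons, List.mem_cons, List.not_mem_nil, or_false, not_or,
        List.nodup_nil, and_true, not_false_eq_true]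
      exact ⟨⟨d1, d2, a1.symm, b1.symm⟩, ⟨d3, a2.symm, b2.symm⟩, ⟨a3.symm, b3.symm⟩, hne⟩
    · intro h6
      obtain ⟨f₁, hf₁, f₂, hf₂, f₃, hf₃, n12, n13, n23⟩ :=
        Finset.two_lt_card.mp (by omega : 2 < (Finset.univ \ S).card)
      obtain ⟨a1, a2, a3⟩ := hmem f₁ hf₁
      obtain ⟨b1, b2, b3⟩ := hmem f₂ hf₂
      obtain ⟨c1, c2, c3⟩ := hmem f₃ hf₃
      apply emb6' v x f₁ f₂ f₃ (hc x) (hfix f₁ a1 a2 a3) (hfix f₂ b1 b2 b3) (hfix f₃ c1 c2 c3)
      simp only [List.nodup_cons, List.mem_cons, List.not_mem_nil, or_false, not_or,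
        List.nodup_nil, and_true, not_false_eq_true]
      exact ⟨⟨d1, d2, a1.symm, b1.symm, c1.symm⟩, ⟨d3, a2.symm, b2.symm, c2.symm⟩,
        ⟨a3.symm, b3.symm, c3.symm⟩, ⟨n12, n13⟩, n23⟩

end std

theorem pkgS3 (hRL : PkgRL) (hNSG : PkgNSG) : PkgS3 := by
  intro Ω _ _ hcard u w hu3 hw3 hu1 hw1
  have hp : Nat.Prime 3 := by norm_num
  rcases std_form u hu3 hu1 hcard with ⟨ιu, hιu⟩ | ⟨⟨ιu, hιu⟩, hu6⟩
  · have h6 : 6 ≤ Fintype.card Ω := by simpa using Fintype.card_le_of_embedding ιu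
    rcases std_form w hw3 hw1 hcard with ⟨ιw, hιw⟩ | ⟨_, hw6⟩
    · exact hRL Ω (Fin 6) 3 hp u w A6 A6 ιu ιw hιu hιw (good_beta hNSG)
    · obtain ⟨ιw, hιw⟩ := hw6 h6
      exact hRL Ω (Fin 6) 3 hp u w A6 A6' ιu ιw hιu hιw (good_gammap hNSG)
  · rcases std_form w hw3 hw1 hcard with ⟨ιw, hιw⟩ | ⟨⟨ιw, hιw⟩, _⟩
    · have h6 : 6 ≤ Fintype.card Ω := by simpa using Fintype.card_le_of_embedding ιw
      obtain ⟨ιu', hιu'⟩ := hu6 h6
      exact hRL Ω (Fin 6) 3 hp u w A6' A6 ιu' ιw hιu' hιw (good_gamma hNSG)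
    · exact hRL Ω (Fin 5) 3 hp u w A5 A5 ιu ιw hιu hιw (good_alpha hNSG)

end Cfsg.Agent.Lib.Helper43.APair
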